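import Groth.Agent.Lib.DeltaEuler.Algebra
import Groth.Agent.Lib.RedTotal.Basic
import Groth.Agent.Lib.FlatFP.Sheaf
import Groth.Agent.Lib.QCoh.Qcqs
import Groth.Agent.Lib.OX.Exact
import Groth.Agent.Lib.QCoh.GenericPoint
import Groth.Agent.Lib.Euler.Coh
import Groth.Prelude.Def_ClSub2
import Groth.Prelude.Def_Curv2
import Groth.Prelude.Def_Pi1

/-!
The cokernel of `O_X ⟶ π_* O` for a finite birational map from a normal scheme.
-/

set_option autoImplicit false
set_option linter.all false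
set_option backward.isDefEq.respectTransparency false

universe u

open CategoryTheory CategoryTheory.Limits AlgebraicGeometry TopologicalSpace Opposite

namespace GrothLib.DeltaEuler

open GrothLib.QCoh (stalkLin)

variable {X X' : Scheme.{u}}

/-- A section of a reduced scheme vanishing on a dense open is zero. -/
theorem eq_zero_of_res_dense [IsReduced X] {U : X.Opens} (hU : Dense (U : Set X)) {V W : X.Opens}
    (hW : W ≤ V) (hWU : V ⊓ U ≤ W) {a : Γ(X, V)} (h : X.presheaf.map (homOfLE hW).op a = 0) : a = 0 := by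
  refine eq_zero_of_basicOpen_eq_bot a (eq_bot_iff.2 fun y hy => ?_)
  obtain ⟨z, hz, hzU⟩ := hU.inter_open_nonempty _ (X.basicOpen a).isOpen ⟨y, hy⟩
  have h1 : X.basicOpen (X.presheaf.map (homOfLE hW).op a) = W ⊓ X.basicOpen a := X.basicOpen_res a _
  rw [h, Scheme.basicOpen_zero] at h1
  exact absurd (show z ∈ W ⊓ X.basicOpen a from ⟨hWU ⟨X.basicOpen_le a hz, hzU⟩, hz⟩)
    (h1 ▸ id : z ∈ W ⊓ X.basicOpen a → False)

theorem bijective_app_of_le (π : X' ⟶ X) {U T : X.Opens} [IsIso (π ∣_ U)] (hT : T ≤ U) :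
    Function.Bijective (π.app T) := by
  haveI : IsIso ((π ∣_ U).app (U.ι ⁻¹ᵁ T)) := inferInstance
  have hTT : U.ι ''ᵁ (U.ι ⁻¹ᵁ T) = T := by
    rw [Scheme.Hom.image_preimage_eq_opensRange_inf, Scheme.Opens.opensRange_ι]
    exact inf_eq_right.2 hT
  haveI : IsIso (π.app (U.ι ''ᵁ (U.ι ⁻¹ᵁ T))) := by
    have h := morphismRestrict_app π U (U.ι ⁻¹ᵁ T)
    have h2 : IsIso (π.app (U.ι ''ᵁ (U.ι ⁻¹ᵁ T)) ≫
        X'.presheaf.map (eqToHom (image_morphismRestrict_preimage π U (U.ι ⁻¹ᵁ T))).op) :=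
      h ▸ inferInstance
    exact IsIso.of_isIso_comp_right _
      (X'.presheaf.map (eqToHom (image_morphismRestrict_preimage π U (U.ι ⁻¹ᵁ T))).op)
  rw [← hTT]
  exact ConcreteCategory.bijective_of_isIso _

/-- An element of a reduced affine chart cutting out a dense open inside a given one. -/
theorem exists_nzd_basicOpen [IsReduced X] [IsLocallyNoetherian X] {U : X.Opens} (hU : Dense (U : Set X))
    {V : X.Opens} (hV : IsAffineOpen V) :
    ∃ f : Γ(X, V), f ∈ nonZeroDivisors Γ(X, V) ∧ X.basicOpen f ≤ U := by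
  classical
  haveI : IsNoetherianRing Γ(X, V) := IsLocallyNoetherian.component_noetherian ⟨V, hV⟩
  haveI : _root_.IsReduced Γ(X, V) := IsReduced.component_reduced V
  let O : Set (PrimeSpectrum Γ(X, V)) := hV.fromSpec ⁻¹' (U : Set X)
  have hO : IsOpen O := U.isOpen.preimage hV.fromSpec.continuous
  have hmin : ∀ P ∈ minimalPrimes Γ(X, V), ∀ hP : P.IsPrime, (⟨P, hP⟩ : PrimeSpectrum Γ(X, V)) ∈ O := by
    intro P hP hP'
    let p : GrothLib.SemiLoc.MinIdx Γ(X, V) := ⟨⟨P, hP'⟩, hP⟩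
    obtain ⟨e, he, he'⟩ := GrothLib.RedTotal.exists_sep p
    have hne : (hV.fromSpec '' (PrimeSpectrum.basicOpen e : Set (PrimeSpectrum Γ(X, V)))).Nonempty :=
      Set.Nonempty.image _ ⟨(⟨P, hP'⟩ : PrimeSpectrum Γ(X, V)), he⟩
    obtain ⟨_, ⟨z, hze, rfl⟩, hzU⟩ := hU.inter_open_nonempty _
      (hV.fromSpec.isOpenEmbedding.isOpenMap _ (PrimeSpectrum.basicOpen e).isOpen) hne
    obtain ⟨Q, hQ, hQz⟩ := Ideal.exists_minimalPrimes_le (bot_le : (⊥ : Ideal Γ(X, V)) ≤ z.asIdeal)
    have hQp : Q = P := by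
      by_contra hne
      exact hze (hQz (he' ⟨⟨Q, hQ.1.1⟩, hQ⟩ fun h => hne (congrArg (fun q => q.1.asIdeal) h)))
    exact ((PrimeSpectrum.le_iff_specializes ⟨P, hP'⟩ z).1 (hQp ▸ hQz)).mem_open hO hzU
  let J : Ideal Γ(X, V) := PrimeSpectrum.vanishingIdeal Oᶜ
  have hJ : PrimeSpectrum.zeroLocus (J : Set Γ(X, V)) = Oᶜ := by
    rw [PrimeSpectrum.zeroLocus_vanishingIdeal_eq_closure, hO.isClosed_compl.closure_eq]
  have hfin : (minimalPrimes Γ(X, V)).Finite := minimalPrimes.finite_of_isNoetherianRing _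
  obtain ⟨f, hfJ, hf⟩ : ∃ f ∈ J, ∀ P ∈ minimalPrimes Γ(X, V), f ∉ P := by
    by_contra hcon
    push Not at hcon
    have hsub : (J : Set Γ(X, V)) ⊆ ⋃ P ∈ (hfin.toFinset : Set (Ideal Γ(X, V))), (P : Set Γ(X, V)) := fun f hf => by
      obtain ⟨P, hP, hfP⟩ := hcon f hf
      exact Set.mem_biUnion (hfin.mem_toFinset.2 hP) hfP
    obtain ⟨P, hP, hJP⟩ := (Ideal.subset_union_prime (f := fun P : Ideal Γ(X, V) => P) ⊤ ⊤
      fun P hP _ _ => (hfin.mem_toFinset.1 hP).1.1).1 hsub
    have hP' := hfin.mem_toFinset.1 hP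
    have : (⟨P, hP'.1.1⟩ : PrimeSpectrum Γ(X, V)) ∈ Oᶜ := hJ ▸ hJP
    exact this (hmin P hP' hP'.1.1)
  refine ⟨f, GrothLib.RedTotal.mem_nonZeroDivisors_iff.2 fun p => hf _ p.2, ?_⟩
  intro y hy
  rw [← hV.fromSpec_image_basicOpen f] at hy
  obtain ⟨z, hz, rfl⟩ := hy
  by_contra hzU
  exact hz ((PrimeSpectrum.mem_vanishingIdeal _ _).1 hfJ z hzU)

variable [IsReduced X] [IsLocallyNoetherian X]

/-- The stalks of `O_X ⟶ π_* O` and of its cokernel. -/
theorem stalk_data (π : X' ⟶ X) [IsFinite π] (hX' : Pi1.IsNormalScheme X') (U : X.Opens)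
    (hU : Dense (U : Set X)) (hU' : Dense ((π ⁻¹ᵁ U : X'.Opens) : Set X')) [IsIso (π ∣_ U)] (x : X) :
    Function.Injective (stalkLin (ClSub.unitToPush π) x) ∧
      Module.length (X.presheaf.stalk x) ((cokernel (ClSub.unitToPush π)).presheaf.stalk x) =
        Curv2.deltaInv (X.presheaf.stalk x) := by
  classical
  haveI : IsReduced X' := by
    haveI : ∀ z : X', _root_.IsReduced (X'.presheaf.stalk z) := fun z =>
      haveI := (hX' z).1
      inferInstance
    exact isReduced_of_isReduced_stalk X'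
  obtain ⟨_, ⟨V, hV, rfl⟩, hxV, -⟩ :=
    X.isBasis_affineOpens.exists_subset_of_mem_open (Set.mem_univ x) isOpen_univ
  have hV : IsAffineOpen V := hV
  obtain ⟨f, hfR, hfU⟩ := exists_nzd_basicOpen hU hV
  let N := (Scheme.Modules.pushforward π).obj (Coh.structureModule X')
  haveI : (Coh.structureModule X').IsQuasicoherent := GrothLib.InvExt.isQuasicoherent_of_isInvertible
    GrothLib.Euler.isInvertible_structure
  haveI : N.IsQuasicoherent := GrothLib.QCoh.isQuasicoherent_pushforward π _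
  letI algB : Algebra Γ(X, V) Γ(X', π ⁻¹ᵁ V) := (π.app V).hom.toAlgebra
  letI := X.presheaf.algebra_section_stalk ⟨x, hxV⟩
  haveI := GrothLib.FlatFP.isLocalization_stalk_primeAt hV hxV
  letI : Module Γ(X, V) (N.presheaf.stalk x) := Module.compHom _ (X.presheaf.germ V x hxV).hom
  haveI : IsScalarTower Γ(X, V) (X.presheaf.stalk x) (N.presheaf.stalk x) :=
    IsScalarTower.of_algebraMap_smul fun _ _ => rfl
  obtain ⟨g₀, hg₀, hg₀z⟩ := GrothLib.FlatFP.isLocalizedModule_germ (F := N) hV hxV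
  let g : Γ(X', π ⁻¹ᵁ V) →ₗ[Γ(X, V)] N.presheaf.stalk x :=
    { toFun := fun b => g₀ b
      map_add' := fun a b => g₀.map_add a b
      map_smul' := fun r b => g₀.map_smul r b }
  haveI : IsLocalizedModule (WeakAss.primeAt x hxV).primeCompl g :=
    ⟨hg₀.map_units, hg₀.surj, fun {a b} h => hg₀.exists_of_eq h⟩
  haveI : Algebra.IsIntegral Γ(X, V) Γ(X', π ⁻¹ᵁ V) := ⟨π.isIntegral_app V hV⟩
  have hinj : Function.Injective (algebraMap Γ(X, V) Γ(X', π ⁻¹ᵁ V)) := by
    rw [injective_iff_map_eq_zero]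
    intro a ha
    refine eq_zero_of_res_dense hU (inf_le_left : V ⊓ U ≤ V) le_rfl ?_
    refine (bijective_app_of_le π (inf_le_right : V ⊓ U ≤ U)).1 ?_
    rw [map_zero]
    refine (congr($(π.naturality (homOfLE (inf_le_left : V ⊓ U ≤ V)).op) a)).trans ?_
    rw [CommRingCat.comp_apply, show π.app V a = 0 from ha, map_zero]
  have hfB : algebraMap Γ(X, V) Γ(X', π ⁻¹ᵁ V) f ∈ nonZeroDivisors Γ(X', π ⁻¹ᵁ V) := by
    rw [mem_nonZeroDivisors_iff_right]
    intro b hb
    refine eq_zero_of_res_dense hU' (π.preimage_mono (inf_le_left : V ⊓ U ≤ V)) (le_of_eq rfl) ?_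
    obtain ⟨c, hc⟩ := (bijective_app_of_le π (inf_le_right : V ⊓ U ≤ U)).2
      (X'.presheaf.map (homOfLE (π.preimage_mono (inf_le_left : V ⊓ U ≤ V))).op b)
    have h1 : c * X.presheaf.map (homOfLE (inf_le_left : V ⊓ U ≤ V)).op f = 0 := by
      refine (bijective_app_of_le π (inf_le_right : V ⊓ U ≤ U)).1 ?_
      rw [map_zero, map_mul, hc]
      refine Eq.trans (congrArg (_ * ·) (congr($(π.naturality (homOfLE (inf_le_left : V ⊓ U ≤ V)).op) f))) ?_
      rw [CommRingCat.comp_apply]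
      exact ((map_mul _ _ _).symm.trans (congrArg _ hb)).trans (map_zero _)
    have hc0 : c = 0 := by
      refine TopCat.Presheaf.section_ext X.sheaf (V ⊓ U) c 0 fun y hy => ?_
      have h2 := congrArg (X.presheaf.germ (V ⊓ U) y hy) h1
      rw [map_mul, map_zero] at h2
      letI := X.presheaf.algebra_section_stalk ⟨y, hy.1⟩
      haveI := GrothLib.FlatFP.isLocalization_stalk_primeAt hV hy.1
      have hnz : X.presheaf.germ V y hy.1 f ∈ nonZeroDivisors (X.presheaf.stalk y) :=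
        IsLocalization.nonZeroDivisors_le_comap (WeakAss.primeAt y hy.1).primeCompl (X.presheaf.stalk y) hfR
      erw [TopCat.Presheaf.germ_res_apply] at h2
      exact ((mem_nonZeroDivisors_iff_right.1 hnz) _ h2).trans (map_zero _).symm
    rw [← hc, hc0, map_zero]
  have hgen : ∀ b : Γ(X', π ⁻¹ᵁ V), ∃ (n : ℕ) (a : Γ(X, V)),
      algebraMap Γ(X, V) Γ(X', π ⁻¹ᵁ V) a = algebraMap Γ(X, V) Γ(X', π ⁻¹ᵁ V) f ^ n * b := by
    intro b
    have hle : π ⁻¹ᵁ X.basicOpen f ≤ π ⁻¹ᵁ V := π.preimage_mono (X.basicOpen_le f)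
    obtain ⟨c, hc⟩ := (bijective_app_of_le π hfU).2 (X'.presheaf.map (homOfLE hle).op b)
    haveI := hV.isLocalization_basicOpen f
    obtain ⟨⟨a, ⟨_, m, rfl⟩⟩, ha⟩ := IsLocalization.surj (Submonoid.powers f) c
    have ha : c * X.presheaf.map (homOfLE (X.basicOpen_le f)).op (f ^ m) =
        X.presheaf.map (homOfLE (X.basicOpen_le f)).op a := ha
    have h1 : X'.presheaf.map (homOfLE hle).op (π.app V a - π.app V f ^ m * b) = 0 := by
      have hn : ∀ r : Γ(X, V), X'.presheaf.map (homOfLE hle).op (π.app V r) =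
          π.app (X.basicOpen f) (X.presheaf.map (homOfLE (X.basicOpen_le f)).op r) := fun r =>
        (congr($(π.naturality (homOfLE (X.basicOpen_le f)).op) r)).symm
      rw [map_sub, map_mul, ← map_pow (π.app V).hom, hn, hn, ← hc, ← ha, map_mul, mul_comm, sub_self]
    haveI := (hV.preimage π).isLocalization_basicOpen (π.app V f)
    have h2 : algebraMap Γ(X', π ⁻¹ᵁ V) Γ(X', X'.basicOpen (π.app V f)) (π.app V a - π.app V f ^ m * b) = 0 := by
      have hEq : X'.basicOpen (π.app V f) = π ⁻¹ᵁ X.basicOpen f := (Scheme.preimage_basicOpen π f).symm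
      have h3 := congrArg (X'.presheaf.map (homOfLE hEq.le).op) h1
      rw [map_zero, ← CommRingCat.comp_apply, ← Functor.map_comp] at h3
      exact h3
    obtain ⟨⟨_, j, rfl⟩, hj⟩ := (IsLocalization.map_eq_zero_iff (Submonoid.powers (π.app V f))
      Γ(X', X'.basicOpen (π.app V f)) _).1 h2
    refine ⟨j + m, f ^ j * a, ?_⟩
    show π.app V (f ^ j * a) = π.app V f ^ (j + m) * b
    have hj : π.app V f ^ j * (π.app V a - π.app V f ^ m * b) = 0 := hj
    rw [map_mul, map_pow, pow_add, mul_assoc]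
    exact sub_eq_zero.1 ((mul_sub _ _ _).symm.trans hj)
  have hnor : ∀ (q : Ideal Γ(X', π ⁻¹ᵁ V)) [q.IsPrime], IsDomain (Localization.AtPrime q) ∧
      IsIntegrallyClosed (Localization.AtPrime q) := by
    intro q hq
    have hz : (hV.preimage π).fromSpec ⟨q, hq⟩ ∈ π ⁻¹ᵁ V := by
      rw [← SetLike.mem_coe, ← (hV.preimage π).range_fromSpec]
      exact ⟨⟨q, hq⟩, rfl⟩
    letI := X'.presheaf.algebra_section_stalk ⟨_, hz⟩
    haveI : IsLocalization.AtPrime (X'.presheaf.stalk ((hV.preimage π).fromSpec ⟨q, hq⟩)) q :=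
      (hV.preimage π).isLocalization_stalk' ⟨q, hq⟩ hz
    let e := (IsLocalization.algEquiv q.primeCompl (Localization.AtPrime q)
      (X'.presheaf.stalk ((hV.preimage π).fromSpec ⟨q, hq⟩))).toRingEquiv
    obtain ⟨_, _⟩ := hX' ((hV.preimage π).fromSpec ⟨q, hq⟩)
    exact ⟨e.toMulEquiv.isDomain _, IsIntegrallyClosed.of_equiv e.symm⟩
  obtain ⟨e, he⟩ := exists_equiv_integralClosure hinj f hfR hfB hgen hnor (WeakAss.primeAt x hxV)
    (X.presheaf.stalk x) (N.presheaf.stalk x) g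
  let η := stalkLin (ClSub.unitToPush π) x
  -- the stalk of `O` is spanned by one
  let o : (Coh.structureModule X).presheaf.stalk x :=
    (Coh.structureModule X).presheaf.germ V x hxV (1 : Γ(X, V))
  have ho : η o = g 1 := by
    show stalkLin _ x _ = g₀ _
    rw [GrothLib.QCoh.stalkLin_germ, hg₀z]
    exact congrArg _ (map_one (π.app V).hom)
  have hspan : ∀ t : (Coh.structureModule X).presheaf.stalk x, ∃ r : X.presheaf.stalk x, t = r • o := by
    intro t
    obtain ⟨W, hxW, m, rfl⟩ := TopCat.Presheaf.exists_germ_eq (Coh.structureModule X).presheaf t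
    refine ⟨X.presheaf.germ W x hxW m, ?_⟩
    have hT : x ∈ W ⊓ V := ⟨hxW, hxV⟩
    show (Coh.structureModule X).presheaf.germ W x hxW m = X.presheaf.germ W x hxW m •
      (Coh.structureModule X).presheaf.germ V x hxV (1 : Γ(X, V))
    rw [← TopCat.Presheaf.germ_res_apply (Coh.structureModule X).presheaf (homOfLE inf_le_left) x hT m,
      ← TopCat.Presheaf.germ_res_apply X.presheaf (homOfLE inf_le_left) x hT m,
      ← TopCat.Presheaf.germ_res_apply (Coh.structureModule X).presheaf (homOfLE inf_le_right) x hT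
        (1 : Γ(X, V))]
    refine Eq.trans ?_ (WeakAss.germ_smul hT _ _)
    refine congrArg _ ?_
    show _ = (X.presheaf.map _).hom m * (X.presheaf.map _).hom 1
    rw [map_one, mul_one]
    rfl
  have hres : ∀ r : X.presheaf.stalk x, e (η (r • o)) =
      algebraMap (X.presheaf.stalk x) (integralClosure (X.presheaf.stalk x) (FractionRing (X.presheaf.stalk x))) r := fun r => by
    rw [map_smul, ho, map_smul, he, Algebra.smul_def, mul_one]
  refine ⟨(injective_iff_map_eq_zero η).2 fun t ht => ?_, ?_⟩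
  · obtain ⟨r, rfl⟩ := hspan t
    have h1 := hres r
    rw [ht, map_zero] at h1
    have h2 : r = 0 := IsFractionRing.injective (X.presheaf.stalk x) (FractionRing (X.presheaf.stalk x))
      ((congrArg Subtype.val h1).symm.trans (map_zero _).symm)
    rw [h2, zero_smul]
  · have hS : (LinearMap.range η).map (e : _ →ₗ[X.presheaf.stalk x] _) =
        LinearMap.range (Algebra.linearMap (X.presheaf.stalk x)
          (integralClosure (X.presheaf.stalk x) (FractionRing (X.presheaf.stalk x)))) := by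
      refine le_antisymm ?_ ?_
      · rintro _ ⟨_, ⟨t, rfl⟩, rfl⟩
        obtain ⟨r, rfl⟩ := hspan t
        exact ⟨r, (hres r).symm⟩
      · rintro _ ⟨r, rfl⟩
        exact ⟨_, ⟨r • o, rfl⟩, hres r⟩
    have i1 := (PreservesCokernel.iso (OX.stalk x) (ClSub.unitToPush π) ≪≫
      ModuleCat.cokernelIsoRangeQuotient _).toLinearEquiv
    exact (i1.trans (Submodule.Quotient.equiv _ _ e hS)).length_eq

theorem mono_unitToPush (π : X' ⟶ X) [IsFinite π] (hX' : Pi1.IsNormalScheme X') (U : X.Opens)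
    (hU : Dense (U : Set X)) (hU' : Dense ((π ⁻¹ᵁ U : X'.Opens) : Set X')) [IsIso (π ∣_ U)] :
    Mono (ClSub.unitToPush π) :=
  (OX.mono_iff _).2 fun x => (ModuleCat.mono_iff_injective _).2 (stalk_data π hX' U hU hU' x).1

end GrothLib.DeltaEuler
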