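import Groth.Agent.Lib.DegDet.Stalk
import Groth.Agent.Lib.QCoh.SupportExact
import Mathlib.RingTheory.LocalRing.Length

/-!
The Euler characteristic of a finitely supported module through lengths of stalks.
-/

set_option autoImplicit false
set_option linter.all false
set_option backward.isDefEq.respectTransparency false

universe u

open CategoryTheory AlgebraicGeometry

namespace GrothLib.DeltaEuler

attribute [local instance] Curv2.resAlgebra Curv2.stalkAlgebra

variable {X : Scheme.{u}}

theorem finrank_eq_length_mul (k : Type u) [Field k] (A N : Type u) [CommRing A] [IsLocalRing A] [Algebra k A]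
    [AddCommGroup N] [Module A N] [Module k N] [IsScalarTower k A N] [Module.Finite k N]
    [Module.Finite k (IsLocalRing.ResidueField A)] :
    Module.finrank k N = Module.finrank k (IsLocalRing.ResidueField A) * (Module.length A N).toNat := by
  haveI : IsLocalHom (algebraMap k A) := ⟨fun a ha => isUnit_iff_ne_zero.2 fun h => by
    rw [h, map_zero] at ha; exact not_isUnit_zero ha⟩
  have h := IsLocalRing.length_restrictScalars k A N
  rw [← Module.length_eq_of_surjective (M := IsLocalRing.ResidueField A)
    (IsLocalRing.residue_surjective (R := k)), Module.length_eq_finrank, Module.length_eq_finrank] at h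
  have h2 := congrArg ENat.toNat h
  rw [ENat.toNat_natCast, ENat.toNat_mul, ENat.toNat_natCast, mul_comm] at h2
  exact h2

/-- `χ(M) = ∑ [κ(x) : k] length M_x` for a coherent module with finite support. -/
theorem euler_eq_sum_length (k : Type u) [Field k] [X.Over (Spec (CommRingCat.of k))]
    [IsProper (X ↘ Spec (CommRingCat.of k))] {M : X.Modules} (hM : Coh.IsCoh M)
    (S : Finset X) (hS : CohB1.support M ⊆ S) (hcl : ∀ x ∈ S, IsClosed ({x} : Set X)) :
    Curv2.euler k X M = ∑ x ∈ S, (Module.finrank k (X.residueField x) : ℤ) *
      ((Module.length (X.presheaf.stalk x) (M.presheaf.stalk x)).toNat : ℤ) := by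
  classical
  letI : ∀ x : S, Module k (M.presheaf.stalk (x : X)) := fun x =>
    Module.compHom _ (algebraMap k (X.presheaf.stalk (x : X)))
  obtain ⟨hfin, hsum⟩ := GrothLib.DegDet.finrank_H0_eq_sum k hM S hS hcl
    (fun x : S => M.presheaf.stalk (x : X)) (fun x => AddEquiv.refl _) (fun x a m => rfl)
  rw [hsum]
  refine Eq.trans ?_ (Finset.sum_coe_sort S (fun x => (Module.finrank k (X.residueField x) : ℤ) *
    ((Module.length (X.presheaf.stalk x) (M.presheaf.stalk x)).toNat : ℤ)))
  refine Finset.sum_congr rfl fun x _ => ?_
  haveI := hfin x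
  haveI : IsScalarTower k (X.presheaf.stalk (x : X)) (M.presheaf.stalk (x : X)) :=
    IsScalarTower.of_algebraMap_smul fun _ _ => rfl
  haveI : Module.Finite k (IsLocalRing.ResidueField (X.presheaf.stalk (x : X))) := by
    have h := (Zeta.isClosed_iff_finite (X ↘ Spec (CommRingCat.of k)) (x : X)).1 (hcl x x.2)
    rw [AffDom.toRes_eq_resMap] at h
    exact h
  rw [finrank_eq_length_mul k (X.presheaf.stalk (x : X)) (M.presheaf.stalk (x : X)), Nat.cast_mul]
  rfl

end GrothLib.DeltaEuler
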