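import Groth.Agent.Lib.ConnH0.Basic
import Mathlib.RingTheory.Artinian.Ring

/-!
Global functions of a reduced proper scheme over an algebraically closed field count the connected
components.
-/

set_option autoImplicit false
set_option linter.all false
set_option backward.isDefEq.respectTransparency false

universe u

open CategoryTheory CategoryTheory.Limits AlgebraicGeometry TopologicalSpace Opposite

namespace GrothLib.DeltaEuler

theorem isClopen_connectedComponent {T : Type u} [TopologicalSpace T] [NoetherianSpace T] (x : T) :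
    IsClopen (connectedComponent x) := by
  refine ⟨isClosed_connectedComponent, isClosed_compl_iff.1 ?_⟩
  haveI : Finite (irreducibleComponents T) := NoetherianSpace.finite_irreducibleComponents.to_subtype
  have : (connectedComponent x)ᶜ =
      ⋃ Z ∈ {Z : irreducibleComponents T | Disjoint Z.1 (connectedComponent x)}, Z.1 := by
    ext y
    simp only [Set.mem_compl_iff, Set.mem_iUnion, Set.mem_setOf_eq]
    refine ⟨fun hy => ⟨⟨_, irreducibleComponent_mem_irreducibleComponents y⟩, ?_, mem_irreducibleComponent⟩,
      fun ⟨Z, hZ, hyZ⟩ hy => Set.disjoint_left.1 hZ hyZ hy⟩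
    refine Set.disjoint_left.2 fun z hz hzC => hy ?_
    rw [connectedComponent_eq hzC]
    exact isIrreducible_irreducibleComponent.isConnected.isPreconnected.subset_connectedComponent hz
      mem_irreducibleComponent
  rw [this]
  exact (Set.toFinite _).isClosed_biUnion fun Z _ => isClosed_of_mem_irreducibleComponents _ Z.2

/-- An idempotent with prescribed basic open on a clopen subset. -/
theorem exists_idempotent {X : Scheme.{u}} {C : Set X} (hC : IsClopen C) :
    ∃ e : Γ(X, ⊤), ∀ x : X, X.presheaf.germ ⊤ x trivial e = (haveI := Classical.dec (x ∈ C); if x ∈ C then 1 else 0) := by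
  classical
  let U : ULift.{u} Bool → X.Opens := fun b => if b.down then ⟨C, hC.isOpen⟩ else ⟨Cᶜ, hC.isClosed.isOpen_compl⟩
  let sf : ∀ b, Γ(X, U b) := fun b => if b.down then 1 else 0
  have hc : TopCat.Presheaf.IsCompatible X.presheaf U sf := by
    intro a b
    by_cases hab : a = b
    · subst hab; rfl
    · refine TopCat.Presheaf.section_ext (C := CommRingCat.{u}) (X := X.carrier) X.sheaf _ _ _ fun z hz => ?_
      obtain ⟨hza, hzb⟩ := hz
      rcases a with ⟨_ | _⟩ <;> rcases b with ⟨_ | _⟩
      · exact absurd rfl hab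
      · exact absurd (show z ∈ C from hzb) (show z ∉ C from hza)
      · exact absurd (show z ∈ C from hza) (show z ∉ C from hzb)
      · exact absurd rfl hab
  obtain ⟨t, ht, -⟩ := TopCat.Sheaf.existsUnique_gluing' X.sheaf U ⊤ (fun b => homOfLE le_top)
    (fun x _ => Opens.mem_iSup.2 (by
      by_cases hx : x ∈ C
      · exact ⟨⟨true⟩, hx⟩
      · exact ⟨⟨false⟩, hx⟩)) sf hc
  refine ⟨t, fun x => ?_⟩
  by_cases hx : x ∈ C
  · rw [if_pos hx]
    refine ((X.presheaf.germ_res_apply (homOfLE (le_top : U ⟨true⟩ ≤ ⊤)) x hx t).symm.trans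
      (congrArg (X.presheaf.germ (U ⟨true⟩) x hx) (ht ⟨true⟩))).trans ?_
    exact map_one _
  · rw [if_neg hx]
    refine ((X.presheaf.germ_res_apply (homOfLE (le_top : U ⟨false⟩ ≤ ⊤)) x hx t).symm.trans
      (congrArg (X.presheaf.germ (U ⟨false⟩) x hx) (ht ⟨false⟩))).trans ?_
    exact map_zero _

variable {X : Scheme.{u}} (k : Type u) [Field k] [IsAlgClosed k] [X.Over (Spec (CommRingCat.of k))]
  [IsProper (X ↘ Spec (CommRingCat.of k))] [AlgebraicGeometry.IsReduced X]

/-- `h⁰(O) = ` the number of connected components. -/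
theorem finrank_H0_eq_card_connectedComponents :
    Module.finrank k (Coh.HH X (Coh.structureModule X) 0) = Nat.card (_root_.ConnectedComponents X) := by
  classical
  haveI := GrothLib.Euler.isNoetherian_of_proper (X := X) k
  letI : Algebra k Γ(X, ⊤) := (Coh.toGlobal (X ↘ Spec (CommRingCat.of k))).toAlgebra
  let e : Coh.HH X (Coh.structureModule X) 0 ≃ₗ[k] Γ(X, ⊤) :=
    { ProjCoh.H0top (Coh.structureModule X) with
      map_smul' := fun a h => (ProjCoh.H0top_smul (Coh.structureModule X) a h).trans
        (Algebra.smul_def (R := k) (A := Γ(X, ⊤)) a (ProjCoh.H0top (Coh.structureModule X) h)).symm }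
  haveI := Euler.finiteDimensional_HH k (Euler.isCoh_of_isInvertible (Euler.isInvertible_structure (X := X))) 0
  haveI : Module.Finite k Γ(X, ⊤) := Module.Finite.equiv e
  haveI : IsArtinianRing Γ(X, ⊤) := IsArtinianRing.of_finite k _
  haveI : _root_.IsReduced Γ(X, ⊤) := IsReduced.component_reduced ⊤
  rw [e.finrank_eq]
  -- dimension = number of maximal ideals
  let E : Γ(X, ⊤) ≃ₐ[k] ∀ m : MaximalSpectrum Γ(X, ⊤), Γ(X, ⊤) ⧸ m.asIdeal :=
    AlgEquiv.ofRingEquiv (f := (IsArtinianRing.equivPi Γ(X, ⊤)).toRingEquiv) fun c => rfl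
  haveI : Fintype (MaximalSpectrum Γ(X, ⊤)) := Fintype.ofFinite _
  have hone : ∀ m : MaximalSpectrum Γ(X, ⊤), Module.finrank k (Γ(X, ⊤) ⧸ m.asIdeal) = 1 := fun m => by
    haveI := m.isMaximal
    letI := Ideal.Quotient.field m.asIdeal
    exact finrank_eq_one (1 : Γ(X, ⊤) ⧸ m.asIdeal) one_ne_zero fun w => by
      obtain ⟨c, hc⟩ := IsAlgClosed.algebraMap_bijective_of_isIntegral (k := k) (K := Γ(X, ⊤) ⧸ m.asIdeal) |>.2 w
      exact ⟨c, (Algebra.algebraMap_eq_smul_one c).symm.trans hc⟩
  rw [E.toLinearEquiv.finrank_eq, Module.finrank_pi_fintype]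
  simp only [hone, Finset.sum_const, Finset.card_univ, smul_eq_mul, mul_one]
  rw [← Nat.card_eq_fintype_card]
  -- the bijection with the connected components
  have hu : ∀ (x : X) (f : Γ(X, ⊤)), x ∈ X.basicOpen f ↔ IsUnit (X.presheaf.germ ⊤ x trivial f) := fun x f =>
    Scheme.mem_basicOpen _ f x trivial
  let P : X → MaximalSpectrum Γ(X, ⊤) := fun x =>
    ⟨(IsLocalRing.maximalIdeal (X.presheaf.stalk x)).comap (X.presheaf.germ ⊤ x trivial).hom,
      haveI := (IsLocalRing.maximalIdeal.isMaximal (X.presheaf.stalk x))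
      IsArtinianRing.isMaximal_of_isPrime _⟩
  have hmem : ∀ (x : X) (f : Γ(X, ⊤)), f ∈ (P x).asIdeal ↔ x ∉ X.basicOpen f := fun x f => by
    rw [hu, ← mem_nonunits_iff, ← IsLocalRing.mem_maximalIdeal]; rfl
  have hclop : ∀ f : Γ(X, ⊤), IsClopen (X.basicOpen f : Set X) := by
    intro f
    -- in a finite reduced algebra every element is a unit times an idempotent
    let g : Γ(X, ⊤) := E.symm fun m => if (E f m) = 0 then 1 else 0
    have hfg : f * g = 0 := by
      apply E.injective
      rw [map_mul, map_zero, AlgEquiv.apply_symm_apply]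
      funext m
      by_cases h : E f m = 0 <;> simp [h]
    have hfg' : IsUnit (f + g) := by
      rw [← isUnit_map_iff E, map_add, AlgEquiv.apply_symm_apply, Pi.isUnit_iff]
      intro m
      haveI := m.isMaximal
      letI := Ideal.Quotient.field m.asIdeal
      by_cases h : E f m = 0 <;> simp [h]
    have hc : (X.basicOpen f : Set X)ᶜ = X.basicOpen g := by
      ext x
      simp only [Set.mem_compl_iff, SetLike.mem_coe, hu]
      have h2 : IsUnit (X.presheaf.germ ⊤ x trivial f + X.presheaf.germ ⊤ x trivial g) := by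
        rw [← map_add]; exact hfg'.map _
      have h3 : X.presheaf.germ ⊤ x trivial f * X.presheaf.germ ⊤ x trivial g = 0 := by
        rw [← map_mul, hfg, map_zero]
      constructor
      · exact fun h => (IsLocalRing.isUnit_or_isUnit_of_isUnit_add h2).resolve_left h
      · exact fun hg hf => (hf.mul hg).ne_zero h3
    exact ⟨by rw [← isOpen_compl_iff, hc]; exact (X.basicOpen g).2, (X.basicOpen f).2⟩
  have hP : ∀ x y : X, y ∈ connectedComponent x → P x = P y := fun x y hy => by
    refine MaximalSpectrum.ext (Ideal.ext fun f => ?_)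
    rw [hmem, hmem]
    constructor
    · intro h hy'
      have := (hclop f).connectedComponent_subset hy' (connectedComponent_eq hy ▸ mem_connectedComponent)
      exact h this
    · intro h hx
      exact h ((hclop f).connectedComponent_subset hx hy)
  let Φ : _root_.ConnectedComponents X → MaximalSpectrum Γ(X, ⊤) :=
    Quotient.lift P fun x y hxy => hP x y (by
      have : connectedComponent x = connectedComponent y := hxy
      rw [this]; exact mem_connectedComponent)
  refine (Nat.card_eq_of_bijective Φ ⟨?_, ?_⟩).symm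
  · intro a b hab
    obtain ⟨x, rfl⟩ := ConnectedComponents.surjective_coe a
    obtain ⟨y, rfl⟩ := ConnectedComponents.surjective_coe b
    rw [ConnectedComponents.coe_eq_coe']
    by_contra hne
    obtain ⟨t, ht⟩ := exists_idempotent (isClopen_connectedComponent y)
    have hy' : t ∉ (P y).asIdeal := by
      rw [hmem, not_not, hu, ht, if_pos mem_connectedComponent]; exact isUnit_one
    have hx' : t ∈ (P x).asIdeal := by
      rw [hmem, hu, ht, if_neg hne]; exact not_isUnit_zero
    exact hy' ((show P x = P y from hab) ▸ hx')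
  · intro m
    let f : Γ(X, ⊤) := E.symm fun m' => if m' = m then 1 else 0
    have hf : f ≠ 0 := fun h => by
      have h2 := congrFun ((E.apply_symm_apply _).symm.trans (congrArg E h)) m
      simp at h2
    obtain ⟨x, hx⟩ : ∃ x, x ∈ X.basicOpen f := by
      by_contra! h
      exact hf (eq_zero_of_basicOpen_eq_bot f (eq_bot_iff.2 fun x hx => h x hx))
    refine ⟨ConnectedComponents.mk x, ?_⟩
    show P x = m
    by_contra hne
    have h1 : f ∈ (P x).asIdeal := by
      rw [← Ideal.Quotient.eq_zero_iff_mem]
      have h2 := congrFun (E.apply_symm_apply fun m' => if m' = m then 1 else 0) (P x)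
      rw [if_neg hne] at h2
      exact h2
    exact (hmem x f).1 h1 hx

end GrothLib.DeltaEuler
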