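import Groth.Agent.Lib.DeltaEuler.Main
import Groth.Agent.Lib.DeltaEuler.Euler
import Groth.Agent.Lib.DeltaEuler.H0
import Groth.Agent.Lib.ASBun21.PushFree
import Groth.Agent.Lib.CurveMult.GenusFinite
import Groth.Agent.Lib.Snapper.PushEuler
import Groth.Agent.Lib.Euler.Torsion
import Groth.Agent.Lib.DeltaBC4.Scheme
import Groth.Agent.Lib.RedTotal.Branches
import Groth.Agent.Lib.RedTotal.Delta
import Groth.Agent.Lib.Ref1.Extend
import Groth.Prelude.Def_Brnch

/-!
The genus of a reduced curve and of its normalization.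
-/

set_option autoImplicit false
set_option linter.all false
set_option backward.isDefEq.respectTransparency false

universe u

open CategoryTheory CategoryTheory.Limits AlgebraicGeometry

namespace GrothLib.DeltaEuler

attribute [local instance] Curv2.resAlgebra

variable (k : Type u) [Field k] {X X' : Scheme.{u}} [X.Over (Spec (CommRingCat.of k))]
  [IsProper (X ↘ (Spec (CommRingCat.of k)))] [IsReduced X]
  (π : X' ⟶ X) [IsFinite π] (hX' : Pi1.IsNormalScheme X')
  (U : X.Opens) (hU : Dense (U : Set X)) (hU' : Dense ((π ⁻¹ᵁ U : X'.Opens) : Set X'))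

open Classical in
include hX' hU hU' in
/-- `χ(O_X') = χ(O_X) + ∑ [κ(x) : k] δ_x`, and the sum is finite. -/
theorem euler_normalization (hd : topologicalKrullDim X ≤ 1) (hπU : IsIso (π ∣_ U)) :
    letI : X'.Over (Spec (CommRingCat.of k)) := ⟨π ≫ (X ↘ (Spec (CommRingCat.of k)))⟩
    Curv2.euler k X' (Coh.structureModule X') =
      Curv2.euler k X (Coh.structureModule X) +
        ∑ᶠ x : X, (if IsClosed ({x} : Set X) then
          ((Module.finrank k (X.residueField x) : ℤ) * ((Curv2.deltaInv (X.presheaf.stalk x)).toNat : ℤ)) else 0) := by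
  letI : X'.Over (Spec (CommRingCat.of k)) := ⟨π ≫ (X ↘ (Spec (CommRingCat.of k)))⟩
  haveI := GrothLib.Euler.isNoetherian_of_proper (X := X) k
  haveI := hπU
  obtain ⟨hfin, hcl⟩ := GrothLib.CurveMult.GenusFinite.finite_compl_of_dense hd (U := U) hU
  let η := ClSub.unitToPush π
  haveI : Mono η := GrothLib.DeltaEuler.mono_unitToPush π hX' U hU hU'
  have hO : Coh.IsCoh (Coh.structureModule X) := GrothLib.Euler.isCoh_of_isInvertible GrothLib.Euler.isInvertible_structure
  haveI : IsLocallyNoetherian X' := LocallyOfFiniteType.isLocallyNoetherian π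
  have hO' : Coh.IsCoh (Coh.structureModule X') :=
    GrothLib.Euler.isCoh_of_isInvertible GrothLib.Euler.isInvertible_structure
  haveI := hO'.1
  have hN := GrothLib.ASBun21.isCoh_push_finite π hO'
  have hQ : Coh.IsCoh (cokernel η) := GrothLib.QCoh.isCoh_cokernel η hO hN
  have hsupp : CohB1.support (cokernel η) ⊆ ((U : Set X))ᶜ := by
    intro x hx hxU
    refine hx ⟨fun a b => ?_⟩
    have hbij : Function.Bijective (GrothLib.QCoh.stalkLin η x) :=
      GrothLib.Euler.stalkLin_bijective_of_app_bijective η (O := U) hxU fun T hT =>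
        GrothLib.DeltaEuler.bijective_app_of_le π hT
    have hsur : Function.Surjective (GrothLib.QCoh.stalkLin (cokernel.π η) x) :=
      (ModuleCat.epi_iff_surjective _).1 ((GrothLib.OX.epi_iff (cokernel.π η)).1 inferInstance x)
    have hzero : ∀ q : (cokernel η).presheaf.stalk x, q = 0 := fun q => by
      obtain ⟨y, rfl⟩ := hsur q
      obtain ⟨t, rfl⟩ := hbij.2 y
      rw [← GrothLib.QCoh.stalkLin_comp, cokernel.condition]
      obtain ⟨W, hxW, m, rfl⟩ := TopCat.Presheaf.exists_germ_eq (Coh.structureModule X).presheaf t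
      rw [GrothLib.QCoh.stalkLin_germ]
      exact map_zero _
    rw [hzero a, hzero b]
  have hadd := GrothLib.Euler.euler_additive k (S := ShortComplex.mk η (cokernel.π η) (cokernel.condition η))
    { exact := ShortComplex.exact_of_g_is_cokernel _ (cokernelIsCokernel η) } hO hN hQ
  change Curv2.euler k X ((Scheme.Modules.pushforward π).obj (Coh.structureModule X')) =
    Curv2.euler k X (Coh.structureModule X) + Curv2.euler k X (cokernel η) at hadd
  rw [GrothLib.Snapper.euler_pushforward π rfl (Coh.structureModule X')] at hadd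
  rw [hadd, add_right_inj]
  have hS : CohB1.support (cokernel η) ⊆ (hfin.toFinset : Set X) := by simpa using hsupp
  rw [GrothLib.DeltaEuler.euler_eq_sum_length k hQ hfin.toFinset hS (fun x hx => hcl x (by simpa using hx))]
  rw [finsum_eq_sum_of_support_subset _ (s := hfin.toFinset) ?_]
  · refine Finset.sum_congr rfl fun x hx => ?_
    rw [if_pos (hcl x (by simpa using hx)), ← (GrothLib.DeltaEuler.stalk_data π hX' U hU hU' x).2]
  · intro x hx
    by_contra hxS
    apply Function.mem_support.1 hx
    haveI : Subsingleton ((cokernel η).presheaf.stalk x) :=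
      GrothLib.QCoh.stalk_subsingleton_of_notMem fun h => hxS (hS h)
    rw [← (GrothLib.DeltaEuler.stalk_data π hX' U hU hU' x).2]
    simp [Module.length_eq_zero]


include k hX' hU hU' in
theorem deltaInv_eq_zero_of_mem (hπU : IsIso (π ∣_ U)) {x : X} (hx : x ∈ U) :
    Curv2.deltaInv (X.presheaf.stalk x) = 0 := by
  haveI := GrothLib.Euler.isNoetherian_of_proper (X := X) k
  haveI := hπU
  rw [← (stalk_data π hX' U hU hU' x).2, Module.length_eq_zero_iff]
  have hbij : Function.Bijective (GrothLib.QCoh.stalkLin (ClSub.unitToPush π) x) :=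
    GrothLib.Euler.stalkLin_bijective_of_app_bijective _ (O := U) hx fun T hT => bijective_app_of_le π hT
  refine ⟨fun a b => ?_⟩
  have hsur : Function.Surjective (GrothLib.QCoh.stalkLin (cokernel.π (ClSub.unitToPush π)) x) :=
    (ModuleCat.epi_iff_surjective _).1 ((GrothLib.OX.epi_iff (cokernel.π (ClSub.unitToPush π))).1 inferInstance x)
  have hzero : ∀ q : (cokernel (ClSub.unitToPush π)).presheaf.stalk x, q = 0 := fun q => by
    obtain ⟨y, rfl⟩ := hsur q
    obtain ⟨t, rfl⟩ := hbij.2 y
    rw [← GrothLib.QCoh.stalkLin_comp, cokernel.condition]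
    obtain ⟨W, hxW, m, rfl⟩ := TopCat.Presheaf.exists_germ_eq (Coh.structureModule X).presheaf t
    rw [GrothLib.QCoh.stalkLin_germ]
    exact map_zero _
  rw [hzero a, hzero b]

open Classical in
include hX' hU hU' in
/-- `g(X) + #π₀(X') = g(X') + ∑ δ_x + #π₀(X)` over an algebraically closed field. -/
theorem genus_normalization [IsAlgClosed k] (hd : topologicalKrullDim X ≤ 1) (hπU : IsIso (π ∣_ U)) :
    letI : X'.Over (Spec (CommRingCat.of k)) := ⟨π ≫ (X ↘ (Spec (CommRingCat.of k)))⟩
    (Curv2.genus k X : ℤ) + Nat.card (_root_.ConnectedComponents X') =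
      (Curv2.genus k X' : ℤ) +
        (∑ᶠ x : X, (if IsClosed ({x} : Set X) then ((Curv2.deltaInv (X.presheaf.stalk x)).toNat : ℤ) else 0)) +
        Nat.card (_root_.ConnectedComponents X) := by
  letI : X'.Over (Spec (CommRingCat.of k)) := ⟨π ≫ (X ↘ (Spec (CommRingCat.of k)))⟩
  haveI : IsProper (X' ↘ (Spec (CommRingCat.of k))) :=
    inferInstanceAs (IsProper (π ≫ (X ↘ (Spec (CommRingCat.of k)))))
  haveI : IsReduced X' := by
    haveI : ∀ z : X', _root_.IsReduced (X'.presheaf.stalk z) := fun z =>
      haveI := (hX' z).1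
      inferInstance
    exact isReduced_of_isReduced_stalk X'
  have hO : Coh.IsCoh (Coh.structureModule X) := GrothLib.Euler.isCoh_of_isInvertible GrothLib.Euler.isInvertible_structure
  haveI := GrothLib.Euler.isNoetherian_of_proper (X := X) k
  haveI : IsLocallyNoetherian X' := LocallyOfFiniteType.isLocallyNoetherian π
  have hO' : Coh.IsCoh (Coh.structureModule X') :=
    GrothLib.Euler.isCoh_of_isInvertible GrothLib.Euler.isInvertible_structure
  haveI := hO'.1
  haveI := hO.1
  haveI := (GrothLib.ASBun21.isCoh_push_finite π hO').1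
  have h := euler_normalization k π hX' U hU hU' hd hπU
  rw [← GrothLib.Snapper.euler_pushforward π rfl (Coh.structureModule X'),
    GrothLib.Euler.euler_eq_sub k hd, GrothLib.Euler.euler_eq_sub k hd] at h
  obtain ⟨e0⟩ := GrothLib.Snapper.nonempty_HH_linearEquiv_pushforward (A := k) π rfl (Coh.structureModule X') 0
  obtain ⟨e1⟩ := GrothLib.Snapper.nonempty_HH_linearEquiv_pushforward (A := k) π rfl (Coh.structureModule X') 1
  rw [← e0.finrank_eq, ← e1.finrank_eq, finrank_H0_eq_card_connectedComponents k,
    finrank_H0_eq_card_connectedComponents k] at h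
  have hsum : (∑ᶠ x : X, (if IsClosed ({x} : Set X) then
      ((Module.finrank k (X.residueField x) : ℤ) * ((Curv2.deltaInv (X.presheaf.stalk x)).toNat : ℤ)) else 0)) =
      ∑ᶠ x : X, (if IsClosed ({x} : Set X) then ((Curv2.deltaInv (X.presheaf.stalk x)).toNat : ℤ) else 0) := by
    refine finsum_congr fun x => ?_
    split_ifs with hx
    · have hfin := (Zeta.isClosed_iff_finite (X ↘ Spec (CommRingCat.of k)) x).1 hx
      rw [AffDom.toRes_eq_resMap] at hfin
      haveI : Module.Finite k (X.residueField x) := hfin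
      have h1 : Module.finrank k (X.residueField x) = 1 :=
        finrank_eq_one (1 : X.residueField x) one_ne_zero fun w => by
          obtain ⟨c, hc⟩ := IsAlgClosed.algebraMap_bijective_of_isIntegral (k := k) (K := X.residueField x) |>.2 w
          exact ⟨c, (Algebra.algebraMap_eq_smul_one c).symm.trans hc⟩
      rw [h1]; simp
    · rfl
  rw [hsum] at h
  rw [GrothLib.Euler.genus_def, GrothLib.Euler.genus_def]
  linarith

/-- The branches are at most one more than the delta invariant. -/
theorem numBranches_le (A : Type u) [CommRing A] [IsLocalRing A] [_root_.IsReduced A] [IsNoetherianRing A]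
    [Module.Finite A (integralClosure A (FractionRing A))] :
    1 ≤ Brnch.numBranches A ∧ Brnch.numBranches A ≤ Curv2.deltaInv A + 1 := by
  classical
  let B := integralClosure A (FractionRing A)
  haveI : Finite (MaximalSpectrum B) := GrothLib.RedTotal.finite_maximalSpectrum A B
  haveI : Fintype (MaximalSpectrum B) := Fintype.ofFinite _
  obtain ⟨Φ, -⟩ := GrothLib.RedTotal.exists_equiv_normRed A
  have hcard : Brnch.numBranches A = ENat.card (MaximalSpectrum B) := by
    rw [Brnch.numBranches, if_pos (GrothLib.RedTotal.finite_minimalPrimes A)]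
    exact ENat.card_congr
      { toFun := fun m => ⟨m.asIdeal.map Φ.toRingHom, haveI := m.isMaximal; Ideal.map_isMaximal_of_equiv Φ⟩
        invFun := fun m => ⟨m.asIdeal.map Φ.symm.toRingHom, haveI := m.isMaximal; Ideal.map_isMaximal_of_equiv Φ.symm⟩
        left_inv := fun m => MaximalSpectrum.ext (Ideal.map_of_equiv Φ)
        right_inv := fun m => MaximalSpectrum.ext (Ideal.map_of_equiv Φ.symm) }
  rw [hcard]
  refine ⟨?_, le_trans ?_ (GrothLib.RedTotal.length_pi_le_add_one A B)⟩
  · obtain ⟨m, hm⟩ := Ideal.exists_maximal B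
    exact Order.one_le_iff_pos.2 ((ENat.card_pos_iff_nonempty _).2 ⟨⟨m, hm⟩⟩)
  · rw [ENat.card_eq_coe_natCard, Nat.card_eq_fintype_card, Fintype.card, Finset.card_eq_sum_ones, Nat.cast_sum]
    refine Finset.sum_le_sum fun m _ => ?_
    haveI : Nontrivial (B ⧸ m.asIdeal) := Ideal.Quotient.nontrivial_iff.2 m.isMaximal.ne_top
    rw [Nat.cast_one]
    exact Order.one_le_iff_pos.2 Module.length_pos

include k in
/-- At every point of a reduced curve: `1 ≤ m ≤ δ + 1 < ∞`. -/
theorem branches_le_delta (hd : topologicalKrullDim X ≤ 1) (x : X) :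
    1 ≤ Brnch.numBranchesAt X x ∧ Brnch.numBranchesAt X x ≤ Curv2.deltaInv (X.presheaf.stalk x) + 1 ∧
      Curv2.deltaInv (X.presheaf.stalk x) < ⊤ := by
  haveI := GrothLib.Euler.isNoetherian_of_proper (X := X) k
  haveI : _root_.IsReduced (X.presheaf.stalk x) := inferInstance
  haveI := GrothLib.RedTotal.finite_integralClosure (GrothLib.DeltaBC4.isNagata_stalk k X x)
  obtain ⟨h1, h2⟩ := numBranches_le (X.presheaf.stalk x)
  exact ⟨h1, h2, GrothLib.RedTotal.deltaInv_lt_top _
    ((GrothLib.Ref1.ringKrullDim_stalk_le_topologicalKrullDim x).trans hd)⟩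

end GrothLib.DeltaEuler
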