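import Mathlib

/-!
The localisation of a birational normal extension is the integral closure in the total ring of
fractions.
-/

set_option autoImplicit false
set_option linter.all false

universe u

namespace GrothLib.DeltaEuler

variable {R B : Type u} [CommRing R] [CommRing B] [Algebra R B]

theorem exists_equiv_integralClosure
    (hinj : Function.Injective (algebraMap R B)) (f : R) (hfR : f ∈ nonZeroDivisors R)
    (hfB : algebraMap R B f ∈ nonZeroDivisors B)
    (hgen : ∀ b : B, ∃ (n : ℕ) (a : R), algebraMap R B a = algebraMap R B f ^ n * b)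
    [Algebra.IsIntegral R B]
    (hnor : ∀ (q : Ideal B) [q.IsPrime], IsDomain (Localization.AtPrime q) ∧
      IsIntegrallyClosed (Localization.AtPrime q))
    (p : Ideal R) [p.IsPrime] (A : Type u) [CommRing A] [Algebra R A]
    [IsLocalization p.primeCompl A]
    (M : Type u) [AddCommGroup M] [Module R M] [Module A M] [IsScalarTower R A M]
    (g : B →ₗ[R] M) [IsLocalizedModule p.primeCompl g] :
    ∃ e : M ≃ₗ[A] integralClosure A (FractionRing A), e (g 1) = 1 := by
  classical
  let Q := FractionRing A
  have hfA : algebraMap R A f ∈ nonZeroDivisors A :=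
    IsLocalization.nonZeroDivisors_le_comap p.primeCompl A hfR
  have hfQ : IsUnit (algebraMap R Q f) := by
    rw [IsScalarTower.algebraMap_apply R A Q]
    exact IsLocalization.map_units Q (⟨_, hfA⟩ : nonZeroDivisors A)
  -- the ring map `B → Q`
  let mapf : Localization.Away f →+* Localization.Away (algebraMap R B f) :=
    IsLocalization.Away.map (Localization.Away f) (Localization.Away (algebraMap R B f)) (algebraMap R B) f
  have hmapf : ∀ r, mapf (algebraMap R _ r) = algebraMap B _ (algebraMap R B r) := fun r =>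
    IsLocalization.map_eq _ r
  have hbij : Function.Bijective mapf := by
    refine ⟨(injective_iff_map_eq_zero mapf).2 fun z hz => ?_, fun z => ?_⟩
    · obtain ⟨⟨a, ⟨c, hc⟩⟩, ha⟩ := IsLocalization.surj (Submonoid.powers f) z
      have h1 : algebraMap B (Localization.Away (algebraMap R B f)) (algebraMap R B a) = 0 := by
        rw [← hmapf, ← show z * algebraMap R _ c = algebraMap R _ a from ha, map_mul, hz, zero_mul]
      have h2 : algebraMap R B a = 0 :=
        IsLocalization.injective (Localization.Away (algebraMap R B f))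
          (Submonoid.powers_le.2 hfB) (h1.trans (map_zero _).symm)
      have h3 : a = 0 := hinj (h2.trans (map_zero _).symm)
      have h4 : z * algebraMap R _ c = 0 := by
        rw [show z * algebraMap R _ c = algebraMap R _ a from ha, h3, map_zero]
      exact (IsLocalization.map_units (Localization.Away f) (⟨c, hc⟩ : Submonoid.powers f)).mul_left_eq_zero.1 h4
    · obtain ⟨⟨b, ⟨c, j, rfl⟩⟩, hb⟩ := IsLocalization.surj (Submonoid.powers (algebraMap R B f)) z
      obtain ⟨n, a, ha⟩ := hgen b
      refine ⟨IsLocalization.mk' _ a (⟨f ^ (n + j), n + j, rfl⟩ : Submonoid.powers f), ?_⟩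
      have hu : IsUnit (algebraMap B (Localization.Away (algebraMap R B f)) (algebraMap R B f) ^ (n + j)) :=
        (IsLocalization.Away.algebraMap_isUnit (algebraMap R B f)).pow _
      refine hu.mul_left_injective ?_
      have h1 : mapf (IsLocalization.mk' _ a (⟨f ^ (n + j), n + j, rfl⟩ : Submonoid.powers f)) *
          algebraMap B _ (algebraMap R B f) ^ (n + j) = algebraMap B _ (algebraMap R B a) := by
        rw [← map_pow, ← map_pow, ← hmapf, ← map_mul, ← hmapf]
        exact congrArg mapf (IsLocalization.mk'_spec (Localization.Away f) a (⟨f ^ (n + j), n + j, rfl⟩ : Submonoid.powers f))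
      refine h1.trans ?_
      rw [ha, map_mul, map_pow, pow_add]
      have hb' : z * algebraMap B _ (algebraMap R B f) ^ j = algebraMap B _ b := by
        rw [← map_pow]; exact hb
      rw [← hb']
      ring
  let eR := RingEquiv.ofBijective mapf hbij
  let φ : B →+* Q := (IsLocalization.Away.lift f (g := algebraMap R Q) hfQ).comp
    (eR.symm.toRingHom.comp (algebraMap B (Localization.Away (algebraMap R B f))))
  have hφalg : ∀ r, φ (algebraMap R B r) = algebraMap R Q r := fun r => by
    have h1 : eR.symm (algebraMap B _ (algebraMap R B r)) = algebraMap R _ r := by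
      rw [← hmapf]; exact eR.symm_apply_apply _
    show IsLocalization.Away.lift f hfQ (eR.symm (algebraMap B _ (algebraMap R B r))) = _
    rw [h1]
    exact IsLocalization.Away.lift_eq f hfQ r
  let Φ : B →ₐ[R] Q := { φ with commutes' := hφalg }
  -- the kernel of `Φ` consists of elements killed outside `p`
  have hker : ∀ b, Φ b = 0 → ∃ s ∈ p.primeCompl, algebraMap R B s * b = 0 := by
    intro b hb
    obtain ⟨n, a, ha⟩ := hgen b
    have h1 : algebraMap R Q a = 0 := by rw [← hφalg, ha, map_mul]; exact mul_eq_zero_of_right _ hb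
    have h2 : algebraMap R A a = 0 := IsFractionRing.injective A Q (by
      rw [map_zero, ← IsScalarTower.algebraMap_apply]; exact h1)
    obtain ⟨⟨s, hs⟩, hsa⟩ := (IsLocalization.map_eq_zero_iff p.primeCompl A a).1 h2
    refine ⟨s, hs, (mem_nonZeroDivisors_iff_right.1 (pow_mem hfB n)) _ ?_⟩
    rw [mul_assoc, mul_comm b, ← ha, ← map_mul, show s * a = 0 from hsa, map_zero]
  have hunit : ∀ s : p.primeCompl, IsUnit (algebraMap R (Module.End R Q) s) := fun s => by
    have hu : IsUnit (algebraMap R Q s) := by
      rw [IsScalarTower.algebraMap_apply R A Q]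
      exact (IsLocalization.map_units A s).map _
    rw [Module.End.isUnit_iff]
    refine ⟨fun a b hab => ?_, fun a => ⟨(↑hu.unit⁻¹ : Q) * a, ?_⟩⟩
    · simp only [Module.algebraMap_end_apply, Algebra.smul_def] at hab
      exact hu.mul_right_injective hab
    · simp only [Module.algebraMap_end_apply, Algebra.smul_def]
      rw [← mul_assoc, hu.mul_val_inv, one_mul]
  let Ψ₀ : M →ₗ[R] Q := IsLocalizedModule.lift p.primeCompl g Φ.toLinearMap hunit
  have hΨg : ∀ b, Ψ₀ (g b) = Φ b := fun b =>
    IsLocalizedModule.lift_apply p.primeCompl g Φ.toLinearMap hunit b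
  let Ψ : M →ₗ[A] Q := LinearMap.extendScalarsOfIsLocalization p.primeCompl A Ψ₀
  have hΨ : ∀ m, Ψ m = Ψ₀ m := fun m => rfl
  have hΨinj : Function.Injective Ψ := by
    rw [injective_iff_map_eq_zero]
    intro m hm
    obtain ⟨⟨b, s⟩, hb⟩ := IsLocalizedModule.surj p.primeCompl g m
    have h1 : Φ b = 0 := by
      rw [← hΨg, ← hb, Submonoid.smul_def, map_smul, ← hΨ, hm, smul_zero]
    obtain ⟨t, ht, htb⟩ := hker b h1
    have h2 : g b = 0 := by
      rw [IsLocalizedModule.eq_zero_iff p.primeCompl]
      exact ⟨⟨t, ht⟩, by rw [Submonoid.smul_def, Algebra.smul_def]; exact htb⟩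
    have h3 : (s : R) • m = 0 := by rw [← Submonoid.smul_def]; exact hb.trans h2
    exact IsLocalizedModule.smul_injective g s (by simpa [Submonoid.smul_def] using h3)
  have hint : ∀ m, Ψ m ∈ integralClosure A Q := by
    intro m
    obtain ⟨⟨b, s⟩, hb⟩ := IsLocalizedModule.surj p.primeCompl g m
    have h1 : IsIntegral A (Φ b) := (((Algebra.IsIntegral.isIntegral b : IsIntegral R b)).map Φ).tower_top
    have h2 : algebraMap R A s • Ψ m = Φ b := by
      rw [algebraMap_smul, hΨ, ← map_smul, ← Submonoid.smul_def, hb, hΨg]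
    obtain ⟨v, hv⟩ := (IsLocalization.map_units A s).exists_left_inv
    rw [← one_smul A (Ψ m), ← hv, mul_smul, h2]
    exact h1.smul v
  have hsurj : ∀ y ∈ integralClosure A Q, ∃ m, Ψ m = y := by
    intro y hy
    obtain ⟨⟨a₁, ⟨t₁, ht₁⟩⟩, hy₁⟩ := IsLocalization.surj (nonZeroDivisors A) y
    obtain ⟨⟨a₀, sa⟩, ha⟩ := IsLocalization.surj p.primeCompl a₁
    obtain ⟨⟨t₀, st⟩, ht⟩ := IsLocalization.surj p.primeCompl t₁
    have hy₁ : y * algebraMap A Q t₁ = algebraMap A Q a₁ := hy₁
    have ha : a₁ * algebraMap R A sa = algebraMap R A a₀ := ha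
    have ht : t₁ * algebraMap R A st = algebraMap R A t₀ := ht
    let t : R := t₀ * sa
    let a : R := a₀ * st
    have hyt : y * algebraMap R Q t = algebraMap R Q a := by
      simp only [t, a, map_mul, IsScalarTower.algebraMap_apply R A Q, ← ha, ← ht]
      rw [← hy₁]; ring
    have htA : algebraMap R A t ∈ nonZeroDivisors A := by
      simp only [t, map_mul, ← ht]
      exact mul_mem (mul_mem ht₁ (IsLocalization.map_units A st).mem_nonZeroDivisors)
        (IsLocalization.map_units A sa).mem_nonZeroDivisors
    let I : Ideal B :=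
      Submodule.comap (LinearMap.mulRight B (algebraMap R B a)) (Ideal.span {algebraMap R B t})
    have hI : ∃ s ∈ p.primeCompl, algebraMap R B s ∈ I := by
      by_contra hcon
      push Not at hcon
      obtain ⟨q, hq, hle, hdisj⟩ := Ideal.exists_le_prime_disjoint I
        (p.primeCompl.map (algebraMap R B)) (Set.disjoint_left.2 (by
          rintro _ hI ⟨s, hs, rfl⟩; exact hcon s hs hI))
      have hS : ∀ s ∈ p.primeCompl, algebraMap R B s ∉ q := fun s hs h =>
        Set.disjoint_left.1 hdisj h ⟨s, hs, rfl⟩
      let Bq := Localization.AtPrime q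
      obtain ⟨_, _⟩ := hnor q
      let Kq := FractionRing Bq
      have hSu : ∀ s : p.primeCompl, IsUnit ((algebraMap B Bq).comp (algebraMap R B) s) := fun s =>
        IsLocalization.map_units Bq (⟨_, hS s s.2⟩ : q.primeCompl)
      let ρ : A →+* Bq := IsLocalization.lift hSu
      have hρ : ∀ r, ρ (algebraMap R A r) = algebraMap B Bq (algebraMap R B r) :=
        IsLocalization.lift_eq hSu
      -- non zero divisors of `A` stay nonzero
      have hne : ∀ c ∈ nonZeroDivisors A, ρ c ≠ 0 := by
        intro c hc h0
        obtain ⟨⟨r, s⟩, hr⟩ := IsLocalization.surj p.primeCompl c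
        have h1 : algebraMap B Bq (algebraMap R B r) = 0 := by
          rw [← hρ, ← show c * algebraMap R A s = _ from hr, map_mul, h0, zero_mul]
        obtain ⟨⟨w, hw⟩, hwr⟩ := (IsLocalization.map_eq_zero_iff q.primeCompl Bq _).1 h1
        obtain ⟨n, w₀, hw₀⟩ := hgen w
        have h2 : w₀ * r = 0 := hinj (by
          rw [map_mul, hw₀, mul_assoc, show w * algebraMap R B r = 0 from hwr, mul_zero, map_zero])
        have h3 : algebraMap R A r ∈ nonZeroDivisors A := by
          rw [← show c * algebraMap R A s = _ from hr]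
          exact mul_mem hc (IsLocalization.map_units A s).mem_nonZeroDivisors
        obtain ⟨⟨s', hs'⟩, hs'w⟩ := (IsLocalization.map_eq_zero_iff p.primeCompl A w₀).1
          ((mem_nonZeroDivisors_iff_right.1 h3) _ (by rw [← map_mul, h2, map_zero]))
        have h4 : algebraMap R B s' * w = 0 := (mem_nonZeroDivisors_iff_right.1 (pow_mem hfB n)) _ (by
          rw [mul_assoc, mul_comm w, ← hw₀, ← map_mul, show s' * w₀ = 0 from hs'w, map_zero])
        exact q.primeCompl.mul_mem (hS s' hs') hw (h4 ▸ q.zero_mem)
      have hσu : ∀ c : nonZeroDivisors A, IsUnit (((algebraMap Bq Kq).comp ρ) c) := fun c =>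
        isUnit_iff_ne_zero.2 fun h => hne c c.2 (IsFractionRing.injective Bq Kq (h.trans (map_zero _).symm))
      let σ : Q →+* Kq := IsLocalization.lift hσu
      have hσA : σ.comp (algebraMap A Q) = (algebraMap Bq Kq).comp ρ := IsLocalization.lift_comp hσu
      obtain ⟨z, hz⟩ := IsIntegrallyClosed.isIntegral_iff.1
        (IsIntegral.map_of_comp_eq ρ σ hσA.symm hy : IsIntegral Bq (σ y))
      have h1 : z * algebraMap B Bq (algebraMap R B t) = algebraMap B Bq (algebraMap R B a) := by
        apply IsFractionRing.injective Bq Kq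
        have h2 : ∀ r, σ (algebraMap R Q r) = algebraMap Bq Kq (algebraMap B Bq (algebraMap R B r)) := fun r => by
          rw [IsScalarTower.algebraMap_apply R A Q, ← hρ]
          exact RingHom.congr_fun hσA _
        rw [map_mul, hz, ← h2, ← h2, ← map_mul, hyt]
      obtain ⟨⟨z₀, ⟨d, hd⟩⟩, hz₀⟩ := IsLocalization.surj q.primeCompl z
      have hz₀ : z * algebraMap B Bq d = algebraMap B Bq z₀ := hz₀
      have h3 : algebraMap B Bq (z₀ * algebraMap R B t) = algebraMap B Bq (d * algebraMap R B a) := by
        rw [map_mul (algebraMap B Bq) z₀, map_mul (algebraMap B Bq) d, ← h1, ← hz₀]; ring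
      obtain ⟨⟨w, hw⟩, hwz⟩ := (IsLocalization.eq_iff_exists q.primeCompl Bq).1 h3
      have h4 : w * d ∈ I := by
        show w * d * algebraMap R B a ∈ Ideal.span {algebraMap R B t}
        refine Ideal.mem_span_singleton'.2 ⟨w * z₀, ?_⟩
        rw [mul_assoc, show w * (z₀ * algebraMap R B t) = _ from hwz, mul_assoc]
      exact (q.primeCompl.mul_mem hw hd) (hle h4)
    obtain ⟨s, hs, hsI⟩ := hI
    obtain ⟨b, hb⟩ := Ideal.mem_span_singleton'.1 hsI
    refine ⟨IsLocalizedModule.mk' g b (⟨s, hs⟩ : p.primeCompl), ?_⟩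
    have hb' : b * algebraMap R B t = algebraMap R B s * algebraMap R B a := hb
    have hΦb : Φ b = algebraMap R Q s * y := by
      have hut : IsUnit (algebraMap R Q t) := by
        rw [IsScalarTower.algebraMap_apply R A Q]
        exact IsLocalization.map_units Q (⟨_, htA⟩ : nonZeroDivisors A)
      refine hut.mul_left_injective ?_
      show Φ b * algebraMap R Q t = algebraMap R Q s * y * algebraMap R Q t
      rw [mul_assoc, hyt, ← Φ.commutes t, ← map_mul, hb', map_mul, Φ.commutes, Φ.commutes]
    have hus : IsUnit (algebraMap R Q s) := by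
      rw [IsScalarTower.algebraMap_apply R A Q]
      exact (IsLocalization.map_units A (⟨s, hs⟩ : p.primeCompl)).map _
    refine hus.mul_right_injective ?_
    show algebraMap R Q s * _ = algebraMap R Q s * y
    rw [← hΦb, ← Algebra.smul_def, hΨ, ← map_smul, ← hΨg b]
    exact congrArg Ψ₀ (IsLocalizedModule.mk'_cancel' g b (⟨s, hs⟩ : p.primeCompl))
  let Ψ' : M →ₗ[A] integralClosure A Q :=
    LinearMap.codRestrict (Subalgebra.toSubmodule (integralClosure A Q)) Ψ hint
  refine ⟨LinearEquiv.ofBijective Ψ' ⟨fun a b h => hΨinj (congrArg Subtype.val h), fun y => ?_⟩, ?_⟩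
  · obtain ⟨m, hm⟩ := hsurj y.1 y.2
    exact ⟨m, Subtype.ext hm⟩
  · exact Subtype.ext ((hΨ _).trans ((hΨg 1).trans (map_one Φ)))

end GrothLib.DeltaEuler
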