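import Groth.Agent.S9678
import Groth.Agent.Lib.TFCurve11.Basic
import Groth.Prelude.Def_Pi1
import Groth.Agent.Lib.UnrMono.Maximal

/-!
A finite map, bijective on generic points with equal residue fields, is an isomorphism over a dense
open with dense preimage.
-/

set_option autoImplicit false
set_option linter.all false
set_option backward.isDefEq.respectTransparency false

universe u

open CategoryTheory CategoryTheory.Limits AlgebraicGeometry TopologicalSpace

namespace GrothLib.DeltaEuler

theorem eq_of_specializes_gen {X : Scheme.{u}} {x : X} (hx : closure ({x} : Set X) ∈ irreducibleComponents (X : Type u))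
    {y : X} (h : y ⤳ x) : y = x :=
  (Specializes.antisymm h (specializes_iff_closure_subset.2
    (hx.2 isIrreducible_singleton.closure (specializes_iff_closure_subset.1 h)))).eq

theorem exists_dense_isIso {X X' : Scheme.{u}} (π : X' ⟶ X) [IsFinite π] [IsReduced X] [IsNoetherian X]
    (hX' : Pi1.IsNormalScheme X')
    (hbij : Set.BijOn (fun x' : X' => π x') {x' : X' | closure ({x'} : Set X') ∈ irreducibleComponents (X' : Type u)}
      {x : X | closure ({x} : Set X) ∈ irreducibleComponents (X : Type u)})
    (hres : ∀ x' : X', closure ({x'} : Set X') ∈ irreducibleComponents (X' : Type u) → Function.Bijective (π.residueFieldMap x').hom) :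
    ∃ U : X.Opens, Dense (U : Set X) ∧ Dense ((π ⁻¹ᵁ U : X'.Opens) : Set X') ∧ IsIso (π ∣_ U) := by
  haveI : IsReduced X' := by
    haveI : ∀ z : X', _root_.IsReduced (X'.presheaf.stalk z) := fun z =>
      haveI := (hX' z).1
      inferInstance
    exact isReduced_of_isReduced_stalk X'
  haveI : IsLocallyNoetherian X' := LocallyOfFiniteType.isLocallyNoetherian π
  haveI : CompactSpace X' := QuasiCompact.compactSpace_of_compactSpace π
  haveI : IsNoetherian X' := {}
  have hstalk : ∀ x' : X', closure ({x'} : Set X') ∈ irreducibleComponents (X' : Type u) → IsIso (π.stalkMap x') := by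
    intro x' hx'
    have hb := hres x' hx'
    have h1 : IsField (X.presheaf.stalk (π x')) :=
      GrothLib.TFCurve11.isField_stalk_of_maximal _ fun y hy => eq_of_specializes_gen (hbij.mapsTo hx') hy
    have h2 : IsField (X'.presheaf.stalk x') :=
      GrothLib.TFCurve11.isField_stalk_of_maximal _ fun y hy => eq_of_specializes_gen hx' hy
    letI := h1.toField
    letI := h2.toField
    refine (ConcreteCategory.isIso_iff_bijective _).2 ⟨(π.stalkMap x').hom.injective, fun b => ?_⟩
    obtain ⟨a, ha⟩ := hb.2 (X'.residue x' b)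
    obtain ⟨a, rfl⟩ := X.residue_surjective (π x') a
    refine ⟨a, ?_⟩
    have h3 : X'.residue x' (π.stalkMap x' a) = X'.residue x' b := by
      rw [← ha, ← CommRingCat.comp_apply, ← Scheme.residue_residueFieldMap π x']
      rfl
    exact (X'.residue x').hom.injective h3
  obtain ⟨U', V, hUV, hU', hV, hiso⟩ := Groth.Agent.S9678.result π
    NoetherianSpace.finite_irreducibleComponents NoetherianSpace.finite_irreducibleComponents hbij hstalk
    (Or.inl ⟨inferInstance, inferInstance⟩)
  haveI := hiso
  let F : Set X := π '' (U' : Set X')ᶜ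
  have hF : IsClosed F := π.isClosedMap _ U'.isOpen.isClosed_compl
  let W : X.Opens := ⟨(V : Set X) ∩ Fᶜ, V.isOpen.inter hF.isOpen_compl⟩
  have hWV : W ≤ V := fun x hx => hx.1
  have hpre : π ⁻¹ᵁ W ≤ U' := fun z hz => by
    by_contra h
    exact hz.2 ⟨z, h, rfl⟩
  have hgen : ∀ x : X, closure ({x} : Set X) ∈ irreducibleComponents (X : Type u) → x ∈ W := by
    intro x hx
    have hmem : ∀ {Y : Scheme.{u}} (O : Y.Opens), Dense (O : Set Y) → IsNoetherian Y →
        ∀ y : Y, closure ({y} : Set Y) ∈ irreducibleComponents (Y : Type u) → y ∈ O := by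
      intro Y O hO hY y hy
      obtain ⟨o, ho, hone, hoC⟩ := NoetherianSpace.exists_isOpen_nonempty_subset_irreducibleComponent _ hy
      obtain ⟨z, hzo, hzO⟩ := hO.inter_open_nonempty o ho hone
      exact (specializes_iff_mem_closure.2 (hoC hzo)).mem_open O.isOpen hzO
    refine ⟨hmem V hV inferInstance x hx, ?_⟩
    rintro ⟨z, hz, hzx⟩
    refine hz (hmem U' hU' inferInstance z ?_)
    -- a point over a generic point is generic, the fibres being discrete
    obtain ⟨C, hC, hzC⟩ : ∃ C ∈ irreducibleComponents (X' : Type u), z ∈ C :=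
      ⟨_, irreducibleComponent_mem_irreducibleComponents z, mem_irreducibleComponent⟩
    obtain ⟨w, hw⟩ := QuasiSober.sober hC.1 (isClosed_of_mem_irreducibleComponents C hC)
    have hwz : w ⤳ z := hw.specializes hzC
    have hwx : π w = x := eq_of_specializes_gen hx (hzx ▸ hwz.map π.continuous)
    have heq : w = z := GrothLib.MaxPt.eq_of_specializes_of_map_eq (f := π) hwz (hwx.trans hzx.symm)
    rw [← heq, hw.def]
    exact hC
  have hdense : ∀ {Y : Scheme.{u}} (O : Y.Opens), (∀ y : Y, closure ({y} : Set Y) ∈ irreducibleComponents (Y : Type u) → y ∈ O) →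
      Dense (O : Set Y) := by
    intro Y O hO y
    obtain ⟨w, hw⟩ := QuasiSober.sober (isIrreducible_irreducibleComponent (x := y)) isClosed_irreducibleComponent
    have hwm : closure ({w} : Set Y) ∈ irreducibleComponents (Y : Type u) := by
      rw [hw.def]; exact irreducibleComponent_mem_irreducibleComponents y
    exact closure_mono (Set.singleton_subset_iff.2 (hO w hwm)) (hw.def.symm ▸ mem_irreducibleComponent)
  refine ⟨W, hdense W hgen, hdense (π ⁻¹ᵁ W) fun y hy => hgen _ (hbij.mapsTo hy), ?_⟩
  -- the inverse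
  let σ : (W : Scheme.{u}) ⟶ X' := X.homOfLE hWV ≫ inv (π.resLE V U' hUV) ≫ U'.ι
  have hσ : σ ≫ π = W.ι := by
    simp only [σ, Category.assoc]
    rw [← π.resLE_comp_ι hUV, IsIso.inv_hom_id_assoc, Scheme.homOfLE_ι]
  have hrange : Set.range σ ⊆ Set.range (π ⁻¹ᵁ W).ι := by
    rw [Scheme.Opens.range_ι]
    rintro _ ⟨y, rfl⟩
    show π (σ y) ∈ W
    rw [show π (σ y) = W.ι y from congrArg (fun φ : (W : Scheme.{u}) ⟶ X => φ y) hσ]
    exact y.2
  refine ⟨IsOpenImmersion.lift (π ⁻¹ᵁ W).ι σ hrange, ?_, ?_⟩
  · rw [← cancel_mono (π ⁻¹ᵁ W).ι, Category.assoc, IsOpenImmersion.lift_fac, Category.id_comp]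
    have h : X'.homOfLE hpre ≫ π.resLE V U' hUV = (π ∣_ W) ≫ X.homOfLE hWV := by
      rw [← cancel_mono V.ι, Category.assoc, Category.assoc, π.resLE_comp_ι, Scheme.homOfLE_ι_assoc,
        Scheme.homOfLE_ι, morphismRestrict_ι]
    simp only [σ]
    rw [← reassoc_of% h, IsIso.hom_inv_id_assoc, Scheme.homOfLE_ι]
  · rw [← cancel_mono W.ι, Category.assoc, morphismRestrict_ι, IsOpenImmersion.lift_fac_assoc, hσ,
      Category.id_comp]

end GrothLib.DeltaEuler
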